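import Mathlib

open CategoryTheory CategoryTheory.Limits MonoidalCategory

universe u

namespace TorSESLib

variable {R : Type u} [CommRing R] (S : ShortComplex (ModuleCat.{u} R)) (N : ModuleCat.{u} R)

/-- `S ⊗ P` for a projective resolution `P` of `N`. -/
noncomputable def cx : ShortComplex (ChainComplex (ModuleCat.{u} R) ℕ) :=
  let P := (projectiveResolution N).complex
  let T := tensoringLeft (ModuleCat.{u} R)
  ShortComplex.mk ((NatTrans.mapHomologicalComplex (T.map S.f) (ComplexShape.down ℕ)).app P)
    ((NatTrans.mapHomologicalComplex (T.map S.g) (ComplexShape.down ℕ)).app P) (by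
      ext j : 1
      show (T.map S.f).app _ ≫ (T.map S.g).app _ = 0
      rw [← NatTrans.comp_app, ← T.map_comp, S.zero, T.map_zero]
      rfl)

theorem cx_shortExact (hS : S.ShortExact) : (cx S N).ShortExact := by
  refine HomologicalComplex.shortExact_of_degreewise_shortExact _ fun j => ?_
  have : CategoryTheory.Projective ((projectiveResolution N).complex.X j) :=
    (projectiveResolution N).projective j
  have hP : Module.Projective R ((projectiveResolution N).complex.X j) :=
    (IsProjective.iff_projective _).2 this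
  have hex := (ShortComplex.ShortExact.moduleCat_exact_iff_function_exact S).1 hS.exact
  have hi : Function.Injective S.f.hom := (ModuleCat.mono_iff_injective _).1 hS.mono_f
  have hsj : Function.Surjective S.g.hom := (ModuleCat.epi_iff_surjective _).1 hS.epi_g
  exact
    { exact := (ShortComplex.ShortExact.moduleCat_exact_iff_function_exact _).2
        (rTensor_exact ((projectiveResolution N).complex.X j) hex hsj)
      mono_f := (ModuleCat.mono_iff_injective _).2
        (Module.Flat.rTensor_preserves_injective_linearMap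
          (M := (projectiveResolution N).complex.X j) S.f.hom hi)
      epi_g := (ModuleCat.epi_iff_surjective _).2
        (LinearMap.rTensor_surjective ((projectiveResolution N).complex.X j) hsj) }

noncomputable def torIso (M : ModuleCat.{u} R) (i : ℕ) :
    ((CategoryTheory.Tor (ModuleCat.{u} R) i).obj M).obj N ≅
      ((((tensoringLeft (ModuleCat.{u} R)).obj M).mapHomologicalComplex
        (ComplexShape.down ℕ)).obj (projectiveResolution N).complex).homology i :=
  (projectiveResolution N).isoLeftDerivedObj _ i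

theorem isZero_tor_middle (hS : S.ShortExact) (i : ℕ)
    (h₁ : IsZero (((CategoryTheory.Tor (ModuleCat.{u} R) i).obj S.X₁).obj N))
    (h₃ : IsZero (((CategoryTheory.Tor (ModuleCat.{u} R) i).obj S.X₃).obj N)) :
    IsZero (((CategoryTheory.Tor (ModuleCat.{u} R) i).obj S.X₂).obj N) := by
  refine IsZero.of_iso ?_ (torIso N S.X₂ i)
  exact ((cx_shortExact S N hS).homology_exact₂ i).isZero_X₂
    ((h₁.of_iso (torIso N S.X₁ i).symm).eq_of_src _ _)
    ((h₃.of_iso (torIso N S.X₃ i).symm).eq_of_tgt _ _)

theorem isZero_tor_left (hS : S.ShortExact) (i : ℕ)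
    (h₂ : IsZero (((CategoryTheory.Tor (ModuleCat.{u} R) i).obj S.X₂).obj N))
    (h₃ : IsZero (((CategoryTheory.Tor (ModuleCat.{u} R) (i + 1)).obj S.X₃).obj N)) :
    IsZero (((CategoryTheory.Tor (ModuleCat.{u} R) i).obj S.X₁).obj N) := by
  refine IsZero.of_iso ?_ (torIso N S.X₁ i)
  exact ((cx_shortExact S N hS).homology_exact₁ (i + 1) i (by simp)).isZero_X₂
    ((h₃.of_iso (torIso N S.X₃ (i + 1)).symm).eq_of_src _ _)
    ((h₂.of_iso (torIso N S.X₂ i).symm).eq_of_tgt _ _)

theorem isZero_tor_of_flat (M : ModuleCat.{u} R) [Module.Flat R M] {i : ℕ} (hi : 0 < i) :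
    IsZero (((CategoryTheory.Tor (ModuleCat.{u} R) i).obj M).obj N) := by
  obtain ⟨q, rfl⟩ : ∃ q, i = q + 1 := ⟨i - 1, by omega⟩
  let P := projectiveResolution N
  let F := (tensoringLeft (ModuleCat.{u} R)).obj M
  let K := (F.mapHomologicalComplex (ComplexShape.down ℕ)).obj P.complex
  have h1 : K.ExactAt (q + 1) := by
    have h0 := (P.complex.exactAt_iff' (q + 2) (q + 1) q (by simp [ChainComplex.prev]) (by simp)).1
      (P.complex_exactAt_succ q)
    rw [ShortComplex.ShortExact.moduleCat_exact_iff_function_exact] at h0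
    rw [K.exactAt_iff' (q + 2) (q + 1) q (by simp [ChainComplex.prev]) (by simp),
      ShortComplex.ShortExact.moduleCat_exact_iff_function_exact]
    exact Module.Flat.lTensor_exact (M : Type u) h0
  exact ((K.exactAt_iff_isZero_homology _).1 h1).of_iso (P.isoLeftDerivedObj F (q + 1))

theorem fibreProduct (B' B C S' : Type u) [CommRing B'] [CommRing B] [CommRing C] [CommRing S']
    [Algebra R B'] [Algebra R B] [Algebra R C] [Algebra R S']
    (f : B' →ₐ[R] B) (hf : Function.Surjective f) (g : C →ₐ[R] B) [Module.Flat R B'] (i : ℕ)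
    (hi : 0 < i)
    (hC : IsZero (((CategoryTheory.Tor (ModuleCat.{u} R) i).obj (ModuleCat.of R C)).obj
      (ModuleCat.of R S')))
    (hB : IsZero (((CategoryTheory.Tor (ModuleCat.{u} R) (i + 1)).obj (ModuleCat.of R B)).obj
      (ModuleCat.of R S'))) :
    IsZero (((CategoryTheory.Tor (ModuleCat.{u} R) i).obj
      (ModuleCat.of R ↥(AlgHom.equalizer (f.comp (AlgHom.fst R B' C)) (g.comp (AlgHom.snd R B' C))))).obj
        (ModuleCat.of R S')) := by
  let P := AlgHom.equalizer (f.comp (AlgHom.fst R B' C)) (g.comp (AlgHom.snd R B' C))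
  let d : (B' × C) →ₗ[R] B :=
    f.toLinearMap ∘ₗ LinearMap.fst R B' C - g.toLinearMap ∘ₗ LinearMap.snd R B' C
  let S₁ : ShortComplex (ModuleCat.{u} R) :=
    ShortComplex.moduleCatMk P.val.toLinearMap d (LinearMap.ext fun x => sub_eq_zero.2 x.2)
  have h₁ : S₁.ShortExact :=
    { exact := (ShortComplex.ShortExact.moduleCat_exact_iff_function_exact _).2 fun x =>
        ⟨fun hx => ⟨⟨x, sub_eq_zero.1 hx⟩, rfl⟩, by rintro ⟨y, rfl⟩; exact sub_eq_zero.2 y.2⟩
      mono_f := (ModuleCat.mono_iff_injective _).2 Subtype.val_injective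
      epi_g := (ModuleCat.epi_iff_surjective _).2 fun b => by
        obtain ⟨b', rfl⟩ := hf b
        refine ⟨(b', 0), ?_⟩
        show f b' - g 0 = f b'
        rw [map_zero, sub_zero] }
  let S₂ : ShortComplex (ModuleCat.{u} R) :=
    ShortComplex.moduleCatMk (LinearMap.inl R B' C) (LinearMap.snd R B' C) (by ext <;> simp)
  have h₂ : S₂.ShortExact :=
    { exact := (ShortComplex.ShortExact.moduleCat_exact_iff_function_exact _).2 fun x =>
        ⟨fun hx => ⟨x.1, Prod.ext rfl hx.symm⟩, by rintro ⟨y, rfl⟩; rfl⟩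
      mono_f := (ModuleCat.mono_iff_injective _).2 (LinearMap.inl_injective (R := R) (M := B') (M₂ := C))
      epi_g := (ModuleCat.epi_iff_surjective _).2 (LinearMap.snd_surjective (R := R) (M := B') (M₂ := C)) }
  haveI : Module.Flat R S₂.X₁ := inferInstanceAs (Module.Flat R B')
  have hM := isZero_tor_middle S₂ (ModuleCat.of R S') h₂ i
    (isZero_tor_of_flat _ _ hi) hC
  exact isZero_tor_left S₁ (ModuleCat.of R S') h₁ i hM hB

end TorSESLib
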